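import Groth.Agent.Nagata.CohenLift
import Groth.Agent.Nagata.CohenMap
import Groth.Agent.AdicFS.CompleteNoether
import Mathlib

/-!
# Artinian local rings as quotients of Cohen rings / regular local rings (EGA 0_IV 19.8)
-/

set_option autoImplicit false
set_option linter.style.haveILetI false
universe u

open IsLocalRing

namespace Groth.Agent.CohenStruct16.Artin

/-- A ring map inducing a surjection on residue fields is surjective if the nilpotent maximal ideal is
generated by a natural number. -/
theorem surjective_of_span_natCast {A W : Type u} [CommRing A] [IsLocalRing A] [IsArtinianRing A] [CommRing W]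
    (g : W →+* A) (hres : Function.Surjective ((residue A).comp g)) (p : ℕ)
    (hm : maximalIdeal A = Ideal.span {(p : A)}) : Function.Surjective g := by
  obtain ⟨k, hk⟩ : ∃ k, maximalIdeal A ^ k = ⊥ := by
    obtain ⟨k, hk⟩ := IsArtinianRing.isNilpotent_jacobson_bot (R := A)
    exact ⟨k, by rwa [← IsLocalRing.jacobson_eq_maximalIdeal ⊥ bot_ne_top]⟩
  have key : ∀ j (a : A), ∃ w, a - g w ∈ maximalIdeal A ^ j := by
    intro j
    induction j with
    | zero => exact fun a => ⟨0, by simp⟩
    | succ j ih =>
      intro a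
      obtain ⟨w, hw⟩ := hres (residue A a)
      have h1 : a - g w ∈ maximalIdeal A := Ideal.Quotient.eq.mp hw.symm
      rw [hm, Ideal.mem_span_singleton'] at h1
      obtain ⟨c, hc⟩ := h1
      obtain ⟨v, hv⟩ := ih c
      refine ⟨w + p * v, ?_⟩
      have e : a - g (w + p * v) = (c - g v) * (p : A) := by
        rw [map_add, map_mul, map_natCast, sub_mul, hc]; ring
      rw [e, pow_succ]
      exact Ideal.mul_mem_mul hv (hm ▸ Ideal.mem_span_singleton_self _)
  intro a
  obtain ⟨w, hw⟩ := key k a
  rw [hk, Ideal.mem_bot, sub_eq_zero] at hw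
  exact ⟨w, hw.symm⟩

theorem exists_cohen_quotient {A : Type u} [CommRing A] [IsLocalRing A] [IsArtinianRing A] (p : ℕ)
    [CharP (ResidueField A) p] (hm : maximalIdeal A = Ideal.span {(p : A)}) :
    ∃ (W : Type u) (_ : CommRing W) (I : Ideal W), EGA41.IsCohenRingEGA W ∧ Nonempty (A ≃+* W ⧸ I) := by
  suffices h : ∃ (W : Type u) (_ : CommRing W) (g : W →+* A),
      EGA41.IsCohenRingEGA W ∧ Function.Surjective ((residue A).comp g) by
    obtain ⟨W, _, g, hW, hg⟩ := h
    exact ⟨W, inferInstance, RingHom.ker g, hW,
      ⟨(RingHom.quotientKerEquivOfSurjective (surjective_of_span_natCast g hg p hm)).symm⟩⟩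
  haveI : IsNoetherianRing A := inferInstance
  haveI : IsAdicComplete (maximalIdeal A) A := by
    obtain ⟨k, hk⟩ := IsArtinianRing.isNilpotent_jacobson_bot (R := A)
    have hk' : maximalIdeal A ^ k = ⊥ := by rwa [← IsLocalRing.jacobson_eq_maximalIdeal ⊥ bot_ne_top]
    exact { haus' := fun x hx => by
              have h1 := hx k
              rw [SModEq.zero, smul_eq_mul, Ideal.mul_top, hk'] at h1
              exact (Submodule.mem_bot _).mp h1
            prec' := fun f hf => ⟨f k, fun n => by
              rw [SModEq.sub_mem, smul_eq_mul, Ideal.mul_top]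
              rcases le_total n k with h | h
              · have := hf h
                rwa [SModEq.sub_mem, smul_eq_mul, Ideal.mul_top] at this
              · have := hf h
                rw [SModEq.sub_mem, smul_eq_mul, Ideal.mul_top, hk', Submodule.mem_bot, sub_eq_zero] at this
                rw [this, sub_self]
                exact zero_mem _⟩ }
  obtain ⟨Λ, _, hΛ, g, hg⟩ := Nagata.CohenLift.exists_coeff A
  rcases hΛ with hF | hC
  · rcases CharP.char_is_prime_or_zero (ResidueField A) p with hp | hp0
    · -- the coefficient field has positive characteristic, so `A` is a field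
      haveI := Fact.mk hp
      letI := hF.toField
      haveI : CharP Λ p := ((residue A).comp g).charP ((residue A).comp g).injective p
      have hp' : (p : A) = 0 := by rw [← map_natCast g p, CharP.cast_eq_zero, map_zero]
      have hbot : maximalIdeal A = ⊥ := by rw [hm, hp', Ideal.span_singleton_eq_bot.mpr rfl]
      obtain ⟨W, _, _, hW, ⟨e⟩⟩ := Nagata.CohenRing.exists_cohenRing p (ResidueField A)
      have hbij : Function.Bijective (residue A) :=
        ⟨(RingHom.injective_iff_ker_eq_bot _).mpr (by rw [IsLocalRing.ker_residue, hbot]), residue_surjective⟩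
      refine ⟨W, inferInstance, (RingEquiv.ofBijective _ hbij).symm.toRingHom.comp (e.toRingHom.comp (residue W)),
        Or.inr hW, fun x => ?_⟩
      obtain ⟨w, hw⟩ := residue_surjective (e.symm x)
      refine ⟨w, ?_⟩
      show residue A ((RingEquiv.ofBijective _ hbij).symm (e (residue W w))) = x
      rw [hw, e.apply_symm_apply]
      exact (RingEquiv.ofBijective _ hbij).apply_symm_apply x
    · subst hp0
      haveI : CharZero (ResidueField A) := CharP.charP_to_charZero _
      letI := hF.toField
      exact ⟨Λ, inferInstance, g, Or.inl ⟨hF, ((residue A).comp g).charZero⟩, hg⟩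
  · exact ⟨Λ, inferInstance, g, Or.inr hC, hg⟩

theorem maximalIdeal_of_cohen_quotient {A W : Type u} [CommRing A] [IsLocalRing A] [CommRing W] (I : Ideal W)
    (p : ℕ) [CharP (ResidueField A) p] (hW : EGA41.IsCohenRingEGA W) (e : A ≃+* W ⧸ I) :
    maximalIdeal A = Ideal.span {(p : A)} := by
  let π : W →+* A := e.symm.toRingHom.comp (Ideal.Quotient.mk I)
  have hπ : Function.Surjective π := e.symm.surjective.comp Ideal.Quotient.mk_surjective
  rcases hW with ⟨hF, h0⟩ | ⟨hdom, hdvr, hcpl, q, hq, hmq⟩
  · letI := hF.toField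
    have h0' : CharZero (ResidueField A) := charZero_of_injective_ringHom ((residue A).comp π).injective
    have hp : p = 0 := CharP.eq (ResidueField A) ‹_› (CharP.ofCharZero _)
    have hA : IsField A := by
      refine MulEquiv.isField (Field.toIsField W) ((RingEquiv.ofBijective π ⟨π.injective, hπ⟩).symm.toMulEquiv)
    letI := hA.toField
    rw [hp, Nat.cast_zero, Ideal.span_singleton_eq_bot.mpr rfl]
    exact IsLocalRing.maximalIdeal_eq_bot
  · have hmax : maximalIdeal A = Ideal.span {(q : A)} := by
      have h1 : RingHom.ker π ≤ maximalIdeal W := IsLocalRing.le_maximalIdeal (RingHom.ker_ne_top π)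
      have h2 := IsLocalRing.eq_maximalIdeal (Ideal.IsMaximal.map_of_surjective_of_ker_le hπ h1)
      rw [← h2, hmq, Ideal.map_span, Set.image_singleton, map_natCast]
    have hq0 : (q : ResidueField A) = 0 := by
      rw [← map_natCast (residue A) q, residue_eq_zero_iff, hmax]
      exact Ideal.mem_span_singleton_self _
    rw [CharP.cast_eq_zero_iff (ResidueField A) p] at hq0
    rcases (Nat.dvd_prime hq).mp hq0 with h | h
    · exact absurd h (CharP.char_ne_one (ResidueField A) p)
    · rw [hmax, h]

/-- If the kernel of a surjection from a local ring lies in `n²` and `m² = 0`, it equals `n²`. -/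
theorem nonempty_equiv_of_ker_le {A B : Type u} [CommRing A] [IsLocalRing A] [CommRing B] [IsLocalRing B]
    (h : maximalIdeal A ^ 2 = ⊥) (f : B →+* A) (hf : Function.Surjective f)
    (hk : RingHom.ker f ≤ maximalIdeal B ^ 2) : Nonempty (A ≃+* B ⧸ maximalIdeal B ^ 2) := by
  refine ⟨(RingHom.quotientKerEquivOfSurjective hf).symm.trans (Ideal.quotEquivOfEq (le_antisymm hk ?_))⟩
  rw [← Ideal.map_eq_bot_iff_le_ker, Ideal.map_pow, eq_bot_iff, ← h]
  refine Ideal.pow_right_mono (IsLocalRing.le_maximalIdeal ?_) 2
  intro htop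
  exact (maximalIdeal.isMaximal B).ne_top <| top_le_iff.mp <| by
    have := congrArg (Ideal.comap f) htop
    rw [Ideal.comap_top, Ideal.comap_map_of_surjective _ hf, ← RingHom.ker_eq_comap_bot,
      sup_eq_left.mpr (IsLocalRing.le_maximalIdeal (RingHom.ker_ne_top f))] at this
    exact this.ge

/-- Independent images of generators force the kernel into `n²`. -/
theorem ker_le_sq {A B : Type u} [CommRing A] [IsLocalRing A] [CommRing B] [IsLocalRing B] (f : B →+* A)
    {σ : Type*} [Fintype σ] (y : σ → B) (hy : Ideal.span (Set.range y) = maximalIdeal B)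
    (hm : ∀ i, f (y i) ∈ maximalIdeal A)
    (hli : LinearIndependent (ResidueField A) fun i => (maximalIdeal A).toCotangent ⟨f (y i), hm i⟩) :
    RingHom.ker f ≤ maximalIdeal B ^ 2 := by
  classical
  intro h hh
  have hhm : h ∈ maximalIdeal B := IsLocalRing.le_maximalIdeal (RingHom.ker_ne_top f) hh
  obtain ⟨c, hc⟩ := Ideal.mem_span_range_iff_exists_fun.mp (hy.ge hhm)
  have hz : ∑ j, residue A (f (c j)) • (maximalIdeal A).toCotangent ⟨f (y j), hm j⟩ = 0 := by
    have h1 : (maximalIdeal A).toCotangent (∑ j, f (c j) • ⟨f (y j), hm j⟩) = 0 :=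
      (Ideal.toCotangent_eq_zero _ _).mpr (by
        simp only [Submodule.coe_sum, SetLike.val_smul, smul_eq_mul, ← map_mul, ← map_sum, hc]
        rw [RingHom.mem_ker.mp hh]; exact zero_mem _)
    rw [map_sum] at h1
    simp only [map_smul] at h1
    simp only [← ResidueField.algebraMap_eq, IsScalarTower.algebraMap_smul]
    exact h1
  rw [← hc, pow_two]
  refine sum_mem fun j _ => Ideal.mul_mem_mul ?_ (hy ▸ Ideal.subset_span ⟨j, rfl⟩)
  rw [mem_maximalIdeal]
  intro hu
  exact (mem_maximalIdeal _).mp ((residue_eq_zero_iff _).mp (Fintype.linearIndependent_iff.mp hli _ hz j)) (hu.map f)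

theorem exists_regular_cover {A : Type u} [CommRing A] [IsLocalRing A] [IsArtinianRing A]
    (h : maximalIdeal A ^ 2 = ⊥) :
    ∃ (B : Type u) (_ : CommRing B) (_ : IsRegularLocalRing B),
      Nonempty (A ≃+* B ⧸ IsLocalRing.maximalIdeal B ^ 2) := by
  classical
  haveI : IsNoetherianRing A := inferInstance
  haveI hcA : IsAdicComplete (maximalIdeal A) A :=
    { haus' := fun x hx => by
        have h1 := hx 2
        rw [SModEq.zero, smul_eq_mul, Ideal.mul_top, h] at h1
        exact (Submodule.mem_bot _).mp h1
      prec' := fun f hf => ⟨f 2, fun n => by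
        rw [SModEq.sub_mem, smul_eq_mul, Ideal.mul_top]
        rcases le_total n 2 with hn | hn
        · have := hf hn
          rwa [SModEq.sub_mem, smul_eq_mul, Ideal.mul_top] at this
        · have := hf hn
          rw [SModEq.sub_mem, smul_eq_mul, Ideal.mul_top, h, Submodule.mem_bot, sub_eq_zero] at this
          rw [this, sub_self]
          exact zero_mem _⟩ }
  by_cases hk₀ : ∃ (k₀ : Type u) (_ : Field k₀), Nonempty (k₀ →+* A)
  · obtain ⟨k₀, _, ⟨g₀⟩⟩ := hk₀
    obtain ⟨n, f, hf, hk⟩ := AdicFS.CompleteNoether.exists_presentation_minimal g₀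
    exact ⟨_, inferInstance, PSLoc.isRegularLocalRing _ n, nonempty_equiv_of_ker_le h f hf hk⟩
  obtain ⟨Λ, _, hΛ, g, hg⟩ := Nagata.CohenLift.exists_coeff A
  rcases hΛ with hF | ⟨hdom, hdvr, hcpl, q, hq, hmq⟩
  · exact absurd ⟨Λ, hF.toField, ⟨g⟩⟩ hk₀
  let K := ResidueField A
  have hqm : (q : A) ∈ maximalIdeal A := by
    have : RingHom.ker ((residue A).comp g) = maximalIdeal Λ :=
      IsLocalRing.eq_maximalIdeal (RingHom.ker_isMaximal_of_surjective _ hg)
    rw [← map_natCast g, ← residue_eq_zero_iff]
    exact RingHom.mem_ker.mp (this.ge (hmq ▸ Ideal.mem_span_singleton_self _))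
  have hv0 : (maximalIdeal A).toCotangent ⟨(q : A), hqm⟩ ≠ 0 := by
    rw [Ne, Ideal.toCotangent_eq_zero]
    intro h2
    rw [h, Submodule.mem_bot] at h2
    refine hk₀ ?_
    haveI := Fact.mk hq
    haveI : CharP A q := (CharP.charP_iff_prime_eq_zero hq).mpr h2
    exact ⟨ULift.{u} (ZMod q), inferInstance, ⟨(ZMod.castHom dvd_rfl A).comp ULift.ringEquiv.toRingHom⟩⟩
  obtain ⟨U, hU⟩ := Submodule.exists_isCompl (Submodule.span K {(maximalIdeal A).toCotangent ⟨(q : A), hqm⟩})
  let bU := Module.finBasis K U
  choose b hb using fun i => (maximalIdeal A).toCotangent_surjective (bU i : CotangentSpace A)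
  obtain ⟨f, hfC, hfX⟩ := Nagata.CohenLift.exists_eval Λ g (fun i => (b i : A)) (fun i => (b i).2)
  let B := MvPowerSeries (Fin (Module.finrank K U)) Λ
  have hdim : ((1 : ℕ) : WithBot ℕ∞) ≤ ringKrullDim Λ := (IsDiscreteValuationRing.ringKrullDim_eq_one Λ).ge
  obtain ⟨hreg, -⟩ := Nagata.CohenMap.regular_powerSeries hdim hmq (fun h1 => absurd h1 one_ne_zero) (Module.finrank K U)
  haveI : IsRegularLocalRing B := hreg
  have hmB := Nagata.Normalization.maximalIdeal_eq (n := Module.finrank K U) hmq
  let y : Unit ⊕ Fin (Module.finrank K U) → B := Sum.elim (fun _ => MvPowerSeries.C (q : Λ)) MvPowerSeries.X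
  have hy : Ideal.span (Set.range y) = maximalIdeal B := by
    rw [hmB, Set.Sum.elim_range, Set.range_const]
  have hm : ∀ i, f (y i) ∈ maximalIdeal A := by
    rintro (i | i)
    · show f (MvPowerSeries.C (q : Λ)) ∈ _
      rw [hfC, map_natCast]; exact hqm
    · show f (MvPowerSeries.X i) ∈ _
      rw [hfX]; exact (b i).2
  let v : Unit ⊕ Fin (Module.finrank K U) → CotangentSpace A := fun i => (maximalIdeal A).toCotangent ⟨f (y i), hm i⟩
  have hvl : v ∘ Sum.inl = fun _ => (maximalIdeal A).toCotangent ⟨(q : A), hqm⟩ := funext fun i => by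
    show (maximalIdeal A).toCotangent _ = _
    congr 1
    exact Subtype.ext ((hfC _).trans (map_natCast g q))
  have hvr : v ∘ Sum.inr = fun i => (bU i : CotangentSpace A) := funext fun i => by
    rw [← hb i]
    show (maximalIdeal A).toCotangent _ = _
    congr 1
    exact Subtype.ext (hfX i)
  have hli : LinearIndependent K v := by
    rw [linearIndependent_sum, hvl, hvr]
    refine ⟨linearIndependent_unique_iff.mpr hv0, bU.linearIndependent.map' U.subtype U.ker_subtype, ?_⟩
    have e : Submodule.span K (Set.range fun i => (bU i : CotangentSpace A)) = U := by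
      have := congrArg (Submodule.map U.subtype) bU.span_eq
      rw [Submodule.map_span, Submodule.map_subtype_top, ← Set.range_comp] at this
      exact this
    rw [e, Set.range_const]
    exact hU.disjoint
  have hspan : Submodule.span K (Set.range v) = ⊤ := by
    have e : Submodule.span K (Set.range fun i => (bU i : CotangentSpace A)) = U := by
      have := congrArg (Submodule.map U.subtype) bU.span_eq
      rw [Submodule.map_span, Submodule.map_subtype_top, ← Set.range_comp] at this
      exact this
    rw [← Sum.elim_comp_inl_inr v, Set.Sum.elim_range, Submodule.span_union, hvl, hvr, e, Set.range_const]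
    exact hU.sup_eq_top
  have hgen : Ideal.span (Set.range fun i => f (y i)) = maximalIdeal A := by
    refine le_antisymm (Ideal.span_le.mpr (by rintro _ ⟨i, rfl⟩; exact hm i)) ?_
    have h1 := IsLocalRing.CotangentSpace.span_image_eq_top_iff.mp (by
      rw [← Set.range_comp]; exact hspan :
      Submodule.span K ((maximalIdeal A).toCotangent '' Set.range fun i => (⟨f (y i), hm i⟩ : maximalIdeal A)) = ⊤)
    intro x hx
    have h2 : (⟨x, hx⟩ : maximalIdeal A) ∈ Submodule.span A (Set.range fun i => (⟨f (y i), hm i⟩ : maximalIdeal A)) :=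
      h1.ge trivial
    have h3 := Submodule.apply_mem_span_image_of_mem_span (maximalIdeal A).subtype h2
    rwa [← Set.range_comp] at h3
  have hsurj : Function.Surjective f := by
    obtain ⟨k, hk⟩ : ∃ k, maximalIdeal A ^ k = ⊥ := ⟨2, h⟩
    intro a
    have key : ∀ j (a : A), ∃ w, a - f w ∈ maximalIdeal A ^ j := by
      intro j
      induction j with
      | zero => exact fun a => ⟨0, by simp⟩
      | succ j ih =>
        intro a
        obtain ⟨w, hw⟩ := hg (residue A a)
        have h1 : a - f (MvPowerSeries.C w) ∈ maximalIdeal A := by rw [hfC]; exact Ideal.Quotient.eq.mp hw.symm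
        obtain ⟨c, hc⟩ := Ideal.mem_span_range_iff_exists_fun.mp (hgen.ge h1)
        choose z hz using fun i => ih (c i)
        refine ⟨MvPowerSeries.C w + ∑ i, z i * y i, ?_⟩
        have e : a - f (MvPowerSeries.C w + ∑ i, z i * y i) = ∑ i, (c i - f (z i)) * f (y i) := by
          simp only [map_add, map_sum, map_mul, sub_mul, Finset.sum_sub_distrib, hc]; ring
        rw [e, pow_succ]
        exact sum_mem fun i _ => Ideal.mul_mem_mul (hz i) (hm i)
    obtain ⟨w, hw⟩ := key k a
    rw [hk, Ideal.mem_bot, sub_eq_zero] at hw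
    exact ⟨w, hw.symm⟩
  exact ⟨B, inferInstance, hreg, nonempty_equiv_of_ker_le h f hsurj (ker_le_sq f y hy hm hli)⟩

end Groth.Agent.CohenStruct16.Artin
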