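import Groth.Agent.PBasis.Family
import Groth.Agent.PBasis.SeriesField
import Mathlib

/-!
# The subrings `F[[T^p]]` of `k[[T]]`
-/

set_option autoImplicit false
set_option linter.style.haveILetI false
universe u

open MvPowerSeries

noncomputable section

namespace Groth.Agent.CohenStruct16.FrobSubring

variable (p : ℕ) [hp : Fact p.Prime] {k : Type u} [Field k] {r : ℕ}

/-- `F[[T]] → k[[T]]`, `T ↦ T^p`. -/
def incl (F : Subfield k) (r : ℕ) : MvPowerSeries (Fin r) F →+* MvPowerSeries (Fin r) k :=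
  (expand p hp.out.ne_zero).toRingHom.comp (map F.subtype)

/-- The subring `F[[T^p]]`. -/
def sub (F : Subfield k) (r : ℕ) : Subring (MvPowerSeries (Fin r) k) := (incl p F r).range

theorem coeff_incl (F : Subfield k) (c : MvPowerSeries (Fin r) F) (m : Fin r →₀ ℕ) :
    coeff (p • m) (incl p F r c) = ((coeff m c : F) : k) := by
  show coeff (p • m) (expand p hp.out.ne_zero (map F.subtype c)) = _
  rw [coeff_expand_smul, coeff_map]
  rfl

theorem coeff_incl_of_not_dvd (F : Subfield k) (c : MvPowerSeries (Fin r) F) {n : Fin r →₀ ℕ} {i : Fin r}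
    (h : ¬ p ∣ n i) : coeff n (incl p F r c) = 0 :=
  coeff_expand_of_not_dvd p hp.out.ne_zero _ h

theorem eq_smul_add (n : Fin r →₀ ℕ) : p • n.mapRange (· / p) (Nat.zero_div p) + n.mapRange (· % p) (Nat.zero_mod p) = n := by
  ext i; simp [Nat.div_add_mod]

theorem eq_smul_of_dvd {n : Fin r →₀ ℕ} (h : ∀ i, p ∣ n i) : p • n.mapRange (· / p) (Nat.zero_div p) = n := by
  ext i; simp [Nat.mul_div_cancel' (h i)]

theorem mem_sub {F : Subfield k} {f : MvPowerSeries (Fin r) k} :
    f ∈ sub p F r ↔ f ∈ PBasis.SeriesField.ser F r ∧ ∀ n i, ¬ p ∣ n i → coeff n f = 0 := by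
  constructor
  · rintro ⟨c, rfl⟩
    refine ⟨fun n => ?_, fun n i h => coeff_incl_of_not_dvd p F c h⟩
    by_cases h : ∀ i, p ∣ n i
    · rw [← eq_smul_of_dvd p h, coeff_incl]; exact (coeff _ c).2
    · obtain ⟨i, hi⟩ := not_forall.mp h
      rw [coeff_incl_of_not_dvd p F c hi]; exact zero_mem F
  · rintro ⟨hF, h0⟩
    let c : MvPowerSeries (Fin r) F := fun m => ⟨coeff (p • m) f, hF _⟩
    refine ⟨c, MvPowerSeries.ext fun n => ?_⟩
    by_cases h : ∀ i, p ∣ n i
    · rw [← eq_smul_of_dvd p h, coeff_incl]; rfl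
    · obtain ⟨i, hi⟩ := not_forall.mp h
      rw [coeff_incl_of_not_dvd p F c hi, h0 n i hi]

theorem isNoetherianRing (F : Subfield k) : IsNoetherianRing (sub p F r) := isNoetherianRing_range _

theorem eq_zero_pderiv [CharP k p] {F : Subfield k} {f : MvPowerSeries (Fin r) k} (hf : f ∈ sub p F r) (i : Fin r) :
    pderiv k i f = 0 := by
  classical
  ext n
  rw [coeff_pderiv, map_zero]
  by_cases h : p ∣ (n + Finsupp.single i 1 : Fin r →₀ ℕ) i
  · have e : ((n i : k) + 1) = 0 := by
      have := (CharP.cast_eq_zero_iff k p _).mpr h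
      simpa using this
    rw [e, mul_zero]
  · rw [((mem_sub p).mp hf).2 _ i h, zero_mul]

theorem mem_sub_of_mul_mem [CharP k p] {F : Subfield k} {h b : MvPowerSeries (Fin r) k} (hb : b ∈ sub p F r)
    (hb0 : b ≠ 0) (hhb : h * b ∈ sub p F r) : h ∈ sub p F r := by
  classical
  refine (mem_sub p).mpr ⟨PBasis.SeriesField.mem_ser_of_mul_mem F ((mem_sub p).mp hb).1 hb0 ((mem_sub p).mp hhb).1,
    fun n i hni => ?_⟩
  have h1 := eq_zero_pderiv p hhb i
  rw [Derivation.leibniz, eq_zero_pderiv p hb i, smul_zero, zero_add, smul_eq_mul, mul_eq_zero] at h1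
  have h2 : pderiv k i h = 0 := h1.resolve_left hb0
  have hne : n i ≠ 0 := fun e => hni (by simp [e])
  obtain ⟨m, rfl⟩ : ∃ m, n = m + Finsupp.single i 1 := by
    refine ⟨n - Finsupp.single i 1, (tsub_add_cancel_of_le ?_).symm⟩
    rw [Finsupp.single_le_iff]; omega
  have h3 := congrArg (coeff m) h2
  rw [coeff_pderiv, map_zero, mul_eq_zero] at h3
  refine h3.resolve_right fun e => hni ?_
  rw [← CharP.cast_eq_zero_iff k p]
  simpa using e

theorem exists_basis (F : Subfield k) [Module.Finite F k] :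
    Module.Free (sub p F r) (MvPowerSeries (Fin r) k) ∧ Module.Finite (sub p F r) (MvPowerSeries (Fin r) k) := by
  classical
  let a := Module.finBasis F k
  let ev : (Fin r → Fin p) → (Fin r →₀ ℕ) := fun e => Finsupp.equivFunOnFinite.symm fun i => (e i : ℕ)
  let w : Fin (Module.finrank F k) × (Fin r → Fin p) → MvPowerSeries (Fin r) k := fun q => monomial (ev q.2) (a q.1)
  have key : ∀ (c : MvPowerSeries (Fin r) F) (m : Fin r →₀ ℕ) (e : Fin r → Fin p) (q : Fin (Module.finrank F k) × (Fin r → Fin p)),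
      coeff (p • m + ev e) (incl p F r c * w q) = if q.2 = e then ((coeff m c : F) : k) * a q.1 else 0 := by
    intro c m e q
    rw [coeff_mul_monomial]
    by_cases he : q.2 = e
    · rw [if_pos he, he, if_pos (le_add_of_nonneg_left zero_le), add_tsub_cancel_right, coeff_incl]
    · rw [if_neg he]
      split
      · rename_i hle
        obtain ⟨i, hi⟩ : ∃ i, (q.2 i : ℕ) ≠ e i := by
          by_contra hcon
          push Not at hcon
          exact he (funext fun i => Fin.ext (hcon i))
        have hlei := hle i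
        rw [coeff_incl_of_not_dvd p F c (i := i) ?_, zero_mul]
        simp only [ev, Finsupp.tsub_apply, Finsupp.add_apply, Finsupp.smul_apply, smul_eq_mul,
          Finsupp.coe_equivFunOnFinite_symm] at hlei ⊢
        rintro ⟨d, hd⟩
        have h1 := (e i).2
        have h2 := (q.2 i).2
        have h3 : (p * m i + (e i : ℕ)) = p * d + (q.2 i : ℕ) := by omega
        have h4 := congrArg (· % p) h3
        simp [Nat.mul_add_mod, Nat.mod_eq_of_lt h1, Nat.mod_eq_of_lt h2] at h4
        exact hi (by omega)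
      · rfl
  have hsum : ∀ (c : Fin (Module.finrank F k) × (Fin r → Fin p) → MvPowerSeries (Fin r) F) m e,
      coeff (p • m + ev e) (∑ q, incl p F r (c q) * w q) = ∑ j, ((coeff m (c (j, e)) : F) : k) * a j := by
    intro c m e
    rw [map_sum, Fintype.sum_prod_type]
    simp only [key, Finset.sum_ite_eq', Finset.mem_univ, if_true]
  have hsurj : ∀ f, ∃ c : Fin (Module.finrank F k) × (Fin r → Fin p) → MvPowerSeries (Fin r) F,
      ∑ q, incl p F r (c q) * w q = f := by
    intro f
    let c : Fin (Module.finrank F k) × (Fin r → Fin p) → MvPowerSeries (Fin r) F :=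
      fun q m => a.repr (coeff (p • m + ev q.2) f) q.1
    refine ⟨c, MvPowerSeries.ext fun n => ?_⟩
    obtain ⟨m, e, rfl⟩ : ∃ m e, p • m + ev e = n :=
      ⟨n.mapRange (· / p) (Nat.zero_div p), fun i => ⟨n i % p, Nat.mod_lt _ hp.out.pos⟩, by
        conv_rhs => rw [← eq_smul_add p n]
        congr 1
        ext i; simp [ev]⟩
    rw [hsum]
    conv_rhs => rw [← a.sum_repr (coeff (p • m + ev e) f)]
    rfl
  have hli : ∀ c : Fin (Module.finrank F k) × (Fin r → Fin p) → MvPowerSeries (Fin r) F,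
      ∑ q, incl p F r (c q) * w q = 0 → ∀ q, c q = 0 := by
    intro c hc q
    ext m
    have h1 := congrArg (coeff (p • m + ev q.2)) hc
    rw [hsum, map_zero] at h1
    have h2 := Fintype.linearIndependent_iff.mp a.linearIndependent (fun j => coeff m (c (j, q.2))) h1 q.1
    simpa using congrArg Subtype.val h2
  have hrange : ∀ s : sub p F r, ∃ c, incl p F r c = s := fun s => s.2
  choose g hg using hrange
  have hli' : LinearIndependent (sub p F r) w := by
    rw [Fintype.linearIndependent_iff]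
    intro s hs q
    have := hli (fun q => g (s q)) (by simp only [hg]; exact hs) q
    refine Subtype.ext ?_
    rw [← hg (s q), this, map_zero]
    rfl
  have hspan : ⊤ ≤ Submodule.span (sub p F r) (Set.range w) := by
    intro f _
    obtain ⟨c, hc⟩ := hsurj f
    rw [Submodule.mem_span_range_iff_exists_fun]
    exact ⟨fun q => ⟨_, ⟨c q, rfl⟩⟩, hc⟩
  exact ⟨Module.Free.of_basis (Module.Basis.mk hli' hspan), Module.Finite.of_basis (Module.Basis.mk hli' hspan)⟩

theorem exists_family [CharP k p] :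
    ∃ (ι : Type u) (_ : Nonempty ι) (S : ι → Subring (MvPowerSeries (Fin r) k)),
      (∀ a b : ι, ∃ c, S c ≤ S a ⊓ S b) ∧
      (∀ i, IsNoetherianRing (S i) ∧ Module.Free (S i) (MvPowerSeries (Fin r) k) ∧ Module.Finite (S i) (MvPowerSeries (Fin r) k)) ∧
      ((⨅ i, Subfield.closure (algebraMap (MvPowerSeries (Fin r) k) (FractionRing (MvPowerSeries (Fin r) k)) '' (S i)) :
          Set (FractionRing (MvPowerSeries (Fin r) k)))) =
        Set.range fun x : FractionRing (MvPowerSeries (Fin r) k) => x ^ p := by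
  classical
  obtain ⟨J, _, _, _, κ, hκ, hcap, hprop⟩ :=
    PBasis.Family.exists_cofinite_family p (k₀ := (⊥ : Subfield k)) (K := k)
  let F : J → Subfield k := fun j => (κ j).toSubfield
  set P := MvPowerSeries (Fin r) k
  have hinj := IsFractionRing.injective P (FractionRing P)
  refine ⟨J, inferInstance, fun j => sub p (F j) r, fun a b => ?_, fun i => ⟨isNoetherianRing p _, ?_⟩, ?_⟩
  · obtain ⟨c, hac, hbc⟩ := exists_ge_ge a b
    refine ⟨c, fun f hf => ⟨?_, ?_⟩⟩ <;>
      exact (mem_sub p).mpr ⟨fun n => hκ (by assumption) (((mem_sub p).mp hf).1 n), ((mem_sub p).mp hf).2⟩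
  · haveI : Module.Finite (F i) k := (hprop i).2
    exact exists_basis p (F i)
  have hpowmem : ∀ (j : J) (g : P), g ^ p ∈ sub p (F j) r := fun j g => by
    haveI : ExpChar k p := ExpChar.prime hp.out
    refine (mem_sub p).mpr ⟨fun n => ?_, fun n i hn => ?_⟩
    · rw [← map_frobenius_expand p hp.out.ne_zero, coeff_map, frobenius_def]
      exact (hprop j).1 _
    · rw [← map_frobenius_expand p hp.out.ne_zero, coeff_map, coeff_expand_of_not_dvd p hp.out.ne_zero _ hn, map_zero]
  refine Set.eq_of_subset_of_subset (fun x hx => ?_) ?_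
  swap
  · rintro _ ⟨x, rfl⟩
    obtain ⟨f, g, -, rfl⟩ := IsFractionRing.div_surjective (A := P) x
    simp only [Subfield.coe_iInf, Set.iInf_eq_iInter, Set.mem_iInter, SetLike.mem_coe]
    intro j
    rw [div_pow, ← map_pow, ← map_pow]
    exact div_mem (Subfield.subset_closure ⟨_, hpowmem j f, rfl⟩) (Subfield.subset_closure ⟨_, hpowmem j g, rfl⟩)
  simp only [Subfield.coe_iInf, Set.iInf_eq_iInter, Set.mem_iInter, SetLike.mem_coe] at hx
  obtain ⟨f, g, hg, rfl⟩ := IsFractionRing.div_surjective (A := P) x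
  have hg0 : g ≠ 0 := nonZeroDivisors.ne_zero hg
  have hG0 : g ^ p ≠ 0 := pow_ne_zero _ hg0
  set h := f * g ^ (p - 1)
  have e1 : g ^ p = g * g ^ (p - 1) := by rw [← pow_succ', Nat.sub_add_cancel hp.out.one_le]
  have hg0' : algebraMap P (FractionRing P) g ≠ 0 := (map_ne_zero_iff _ hinj).mpr hg0
  have hx' : algebraMap P (FractionRing P) f / algebraMap _ _ g = algebraMap _ _ h / algebraMap _ _ (g ^ p) := by
    simp only [h, e1, map_mul]
    rw [mul_div_mul_right _ _ (by rw [map_pow]; exact pow_ne_zero _ hg0')]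
  rw [hx'] at hx ⊢
  have hh : ∀ j, h ∈ sub p (F j) r := fun j => by
    obtain ⟨y, hy, z, hz, hyz⟩ := Subfield.mem_closure_iff.mp (hx j)
    have key : ∀ w ∈ Subring.closure (algebraMap P (FractionRing P) '' (sub p (F j) r : Set P)),
        ∃ a ∈ sub p (F j) r, algebraMap _ _ a = w := fun w hw => by
      rw [← RingHom.map_closure, Subring.closure_eq] at hw
      obtain ⟨a, ha, rfl⟩ := Subring.mem_map.mp hw
      exact ⟨a, ha, rfl⟩
    obtain ⟨a, ha, rfl⟩ := key y hy
    obtain ⟨b, hb, rfl⟩ := key z hz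
    rcases eq_or_ne b 0 with rfl | hb0
    · rw [map_zero, div_zero, eq_comm, div_eq_zero_iff, map_eq_zero_iff _ hinj, map_eq_zero_iff _ hinj] at hyz
      rw [hyz.resolve_right hG0]; exact zero_mem _
    · rw [eq_comm, div_eq_div_iff ((map_ne_zero_iff _ hinj).mpr hG0) ((map_ne_zero_iff _ hinj).mpr hb0),
        ← map_mul, ← map_mul] at hyz
      exact mem_sub_of_mul_mem p hb hb0 (hinj hyz ▸ mul_mem ha (hpowmem j g))
  -- `h` is a `p`-th power
  have hroot : ∀ m, ∃ c : k, c ^ p = coeff (p • m) h := fun m => by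
    have h1 : coeff (p • m) h ∈ ⨅ j, κ j ⊔ PBasis.Family.PF p (⊥ : Subfield k) k := by
      rw [← SetLike.mem_coe, IntermediateField.coe_iInf, Set.mem_iInter]
      exact fun j => (le_sup_left : κ j ≤ _) (((mem_sub p).mp (hh j)).1 (p • m))
    rw [show (⨅ j, κ j ⊔ PBasis.Family.PF p (⊥ : Subfield k) k) = _ from hcap] at h1
    haveI : ExpChar k p := ExpChar.prime hp.out
    have h2 : PBasis.Family.PF p (⊥ : Subfield k) k ≤
        (Subfield.toIntermediateField (K := (⊥ : Subfield k)) (frobenius k p).fieldRange fun x =>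
          (bot_le : (⊥ : Subfield k) ≤ (frobenius k p).fieldRange) x.2) :=
      IntermediateField.adjoin_le_iff.mpr fun z ⟨w, hw⟩ => ⟨w, by rw [frobenius_def]; exact hw⟩
    obtain ⟨c, hc⟩ := h2 h1
    exact ⟨c, by rw [← frobenius_def]; exact hc⟩
  choose c hc using hroot
  obtain ⟨j₀⟩ := (inferInstance : Nonempty J)
  let q : P := fun m => c m
  have hq : q ^ p = h := by
    haveI : ExpChar k p := ExpChar.prime hp.out
    ext n
    rw [← map_frobenius_expand p hp.out.ne_zero, coeff_map]
    by_cases hn : ∀ i, p ∣ n i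
    · rw [← eq_smul_of_dvd p hn, coeff_expand_smul, frobenius_def]
      exact hc _
    · obtain ⟨i, hi⟩ := not_forall.mp hn
      rw [coeff_expand_of_not_dvd p hp.out.ne_zero _ hi, map_zero, ((mem_sub p).mp (hh j₀)).2 n i hi]
  exact ⟨algebraMap P (FractionRing P) q / algebraMap _ _ g, by
    show (_ / _) ^ p = _
    rw [div_pow, ← map_pow, hq, map_pow]⟩

end Groth.Agent.CohenStruct16.FrobSubring
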