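import Groth.Agent.AdicFS.Completed
import Groth.Agent.AdicFS.CompletionRel
import Groth.Agent.FieldSep.Imperfection
import Groth.Agent.Adic.Basic
import Groth.Agent.PSLoc.Basic
import Groth.Agent.Nagata.Normalization
import Mathlib

/-!
# Rank of completed differentials of a generically separable finite extension of `k[[T]]`
-/

set_option autoImplicit false
set_option linter.style.haveILetI false
universe u

open IsLocalRing TensorProduct KaehlerDifferential

noncomputable section

namespace Groth.Agent.CohenStruct16.RankKaehler

variable {k : Type u} [Field k] {r : ℕ} {A : Type u} [CommRing A] [IsDomain A] [IsLocalRing A]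
  [Algebra (MvPowerSeries (Fin r) k) A] [Algebra k A] [IsScalarTower k (MvPowerSeries (Fin r) k) A]

/-- The partial derivatives and `dT` control `dc` to every order. -/
theorem sub_mem_pow [IsLocalHom (algebraMap (MvPowerSeries (Fin r) k) A)] (c : MvPowerSeries (Fin r) k) (n : ℕ) :
    D k A (algebraMap _ A c) - ∑ i, algebraMap _ A (MvPowerSeries.pderiv k i c) •
      D k A (algebraMap (MvPowerSeries (Fin r) k) A (MvPowerSeries.X i)) ∈
      (maximalIdeal A ^ n • ⊤ : Submodule A (Ω[A⁄k])) := by
  classical
  let P := MvPowerSeries (Fin r) k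
  let δ : P → Ω[A⁄k] := fun c => D k A (algebraMap P A c) - ∑ i, algebraMap P A (MvPowerSeries.pderiv k i c) •
      D k A (algebraMap P A (MvPowerSeries.X i))
  have hadd : ∀ x y, δ (x + y) = δ x + δ y := fun x y => by
    simp only [δ, map_add, add_smul, Finset.sum_add_distrib]; abel
  have hmul : ∀ x y, δ (x * y) = algebraMap P A x • δ y + algebraMap P A y • δ x := fun x y => by
    simp only [δ, map_mul, Derivation.leibniz, smul_eq_mul, map_add, add_smul, mul_smul, Finset.sum_add_distrib,
      smul_sub, Finset.smul_sum]
    abel
  have hX : ∀ i, δ (MvPowerSeries.X i) = 0 := fun i => by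
    simp [δ, MvPowerSeries.pderiv_X, Pi.single_apply, apply_ite, ite_smul]
  have hC : ∀ l : k, δ (algebraMap k P l) = 0 := fun l => by
    have hp : ∀ i, MvPowerSeries.pderiv k i (algebraMap k P l) = 0 := fun i => by
      rw [MvPowerSeries.algebraMap_apply, Algebra.algebraMap_self, RingHom.id_apply, MvPowerSeries.pderiv_C]
    simp only [δ, hp, ← IsScalarTower.algebraMap_apply k P A, Derivation.map_algebraMap, map_zero, zero_smul,
      Finset.sum_const_zero, sub_zero]
  have hsum : ∀ (s : Finset (Fin r)) (f : Fin r → P), δ (∑ i ∈ s, f i) = ∑ i ∈ s, δ (f i) := fun s f =>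
    map_sum (AddMonoidHom.mk' δ hadd) f s
  show δ c ∈ _
  induction n generalizing c with
  | zero => rw [pow_zero, Ideal.one_eq_top, Submodule.top_smul]; trivial
  | succ n ih =>
    have h0 : MvPowerSeries.constantCoeff (c - algebraMap k P (MvPowerSeries.constantCoeff c)) = 0 := by
      rw [map_sub, MvPowerSeries.algebraMap_apply, MvPowerSeries.constantCoeff_C]
      simp
    obtain ⟨f, hf⟩ := Ideal.mem_span_range_iff_exists_fun.mp (Nagata.Normalization.mem_span_X h0)
    have hc : c = algebraMap k P (MvPowerSeries.constantCoeff c) + ∑ i, f i * MvPowerSeries.X i := by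
      rw [hf]; ring
    rw [hc, hadd, hC, zero_add, hsum]
    refine sum_mem fun i _ => ?_
    rw [hmul, hX, smul_zero, zero_add, pow_succ', ← smul_eq_mul, Submodule.smul_assoc]
    refine Submodule.smul_mem_smul ?_ (ih (f i))
    rw [mem_maximalIdeal]
    intro hu
    have h2 : IsUnit (MvPowerSeries.X i : P) := (isUnit_map_iff (algebraMap P A) _).mp hu
    rw [MvPowerSeries.isUnit_iff_constantCoeff, MvPowerSeries.constantCoeff_X] at h2
    exact not_isUnit_zero h2

theorem finrank_completion [IsNoetherianRing A] [IsAdicComplete (maximalIdeal A) A]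
    (hinj : Function.Injective (algebraMap (MvPowerSeries (Fin r) k) A)) [Module.Finite (MvPowerSeries (Fin r) k) A]
    (hsep : ∀ a : A, ∃ P : Polynomial (MvPowerSeries (Fin r) k), Polynomial.aeval a P = 0 ∧
      (P.map (algebraMap (MvPowerSeries (Fin r) k) (FractionRing (MvPowerSeries (Fin r) k)))).Separable) :
    Module.finrank (FractionRing A) (FractionRing A ⊗[A] AdicCompletion (maximalIdeal A) (Ω[A⁄k])) = r := by
  classical
  set P := MvPowerSeries (Fin r) k
  set m := maximalIdeal A
  set E := FractionRing A
  haveI : Algebra.IsIntegral P A := Algebra.IsIntegral.of_finite P A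
  haveI : FaithfulSMul P A := (faithfulSMul_iff_algebraMap_injective _ _).mpr hinj
  haveI : IsLocalHom (algebraMap P A) := Algebra.IsIntegral.isLocalHom P A
  haveI : FaithfulSMul P E := (faithfulSMul_iff_algebraMap_injective _ _).mpr (by
    rw [IsScalarTower.algebraMap_eq P A E]; exact (IsFractionRing.injective A E).comp hinj)
  letI : Algebra (FractionRing P) E := FractionRing.liftAlgebra P E
  haveI : IsScalarTower P (FractionRing P) E := FractionRing.isScalarTower_liftAlgebra P E
  -- `E / k(T)` is separable, so `E` is formally étale over `k[[T]]`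
  have hsepA : ∀ a : A, IsSeparable (FractionRing P) (algebraMap A E a) := fun a => by
    obtain ⟨q, hq, hqs⟩ := hsep a
    refine hqs.of_dvd (minpoly.dvd _ _ ?_)
    rw [Polynomial.aeval_map_algebraMap, Polynomial.aeval_algebraMap_apply, hq, map_zero]
  haveI : Algebra.IsSeparable (FractionRing P) E := by
    refine ⟨fun y => ?_⟩
    obtain ⟨a, s, -, rfl⟩ := IsFractionRing.div_surjective (A := A) y
    have h1 : algebraMap A E a / algebraMap A E s ∈ separableClosure (FractionRing P) E :=
      div_mem (mem_separableClosure_iff.mpr (hsepA a)) (mem_separableClosure_iff.mpr (hsepA s))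
    exact mem_separableClosure_iff.mp h1
  haveI : Algebra.FormallyEtale P (FractionRing P) :=
    Algebra.FormallyEtale.of_isLocalization (nonZeroDivisors P)
  haveI : Algebra.FormallyEtale (FractionRing P) E := Algebra.FormallyEtale.of_isSeparable _ _
  haveI : Algebra.FormallyEtale P E := Algebra.FormallyEtale.comp P (FractionRing P) E
  haveI : Algebra.FormallyEtale A E := Algebra.FormallyEtale.of_isLocalization (nonZeroDivisors A)
  haveI : IsScalarTower k P E := IsScalarTower.of_algebraMap_eq fun x => by
    rw [IsScalarTower.algebraMap_apply P A E, ← IsScalarTower.algebraMap_apply k P A,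
      ← IsScalarTower.algebraMap_apply k A E]
  -- `E ⊗ Ω_A` is generated by `dc`, `c ∈ k[[T]]`
  have hgen : Function.Surjective ((mapBaseChange k P A).baseChange E) := by
    intro x
    obtain ⟨θ, hθ⟩ := (tensorKaehlerEquivOfFormallyEtale k P E).surjective (mapBaseChange k A E x)
    refine ⟨(AlgebraTensorModule.cancelBaseChange P A E E Ω[P⁄k]).symm θ,
      (tensorKaehlerEquivOfFormallyEtale k A E).injective ?_⟩
    show mapBaseChange k A E _ = mapBaseChange k A E x
    rw [← hθ, ← LinearMap.comp_apply, FieldSep.Imperfection.mapBaseChange_comp, LinearMap.comp_apply,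
      LinearEquiv.coe_coe, LinearEquiv.apply_symm_apply]
    rfl
  let T : Fin r → A := fun i => algebraMap P A (MvPowerSeries.X i)
  let o := AdicCompletion.of m (Ω[A⁄k])
  have hc : ∀ c : P, o (D k A (algebraMap P A c)) =
      ∑ i, algebraMap P A (MvPowerSeries.pderiv k i c) • o (D k A (T i)) := fun c => by
    simp only [← map_smul, ← map_sum]
    rw [← sub_eq_zero, ← map_sub]
    refine AdicCompletion.ext fun n => ?_
    rw [AdicCompletion.val_zero_apply]
    exact (Submodule.Quotient.mk_eq_zero _).mpr (sub_mem_pow c n)
  -- spanning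
  let ψ : (Fin r → E) →ₗ[E] E ⊗[A] AdicCompletion m (Ω[A⁄k]) :=
    Fintype.linearCombination E fun i => (1 : E) ⊗ₜ[A] o (D k A (T i))
  have hoE : ∀ w : E ⊗[A] Ω[A⁄k], o.baseChange E w ∈ LinearMap.range ψ := by
    intro w
    obtain ⟨t, rfl⟩ := hgen w
    induction t using TensorProduct.induction_on with
    | zero => simp
    | add a b ha hb => simp only [map_add]; exact add_mem ha hb
    | tmul e t =>
      induction t using TensorProduct.induction_on generalizing e with
      | zero => simp
      | add a b ha hb => simp only [tmul_add, map_add]; exact add_mem (ha e) (hb e)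
      | tmul a ω =>
        have hω : ω ∈ Submodule.span P (Set.range (D k P)) := by rw [span_range_derivation]; trivial
        induction hω using Submodule.span_induction generalizing a with
        | mem y hy =>
          obtain ⟨c, rfl⟩ := hy
          rw [LinearMap.baseChange_tmul, mapBaseChange_tmul, map_D, tmul_smul, LinearMap.map_smul_of_tower, LinearMap.baseChange_tmul, hc,
            tmul_sum, Finset.smul_sum]
          refine sum_mem fun i _ => ?_
          rw [tmul_smul, ← algebraMap_smul E a, ← algebraMap_smul E (algebraMap P A _), ← mul_smul,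
            show e ⊗ₜ[A] o (D k A (T i)) = e • ((1 : E) ⊗ₜ[A] o (D k A (T i))) by
              rw [smul_tmul', smul_eq_mul, mul_one],
            ← mul_smul]
          refine Submodule.smul_mem _ _ ⟨Pi.single i 1, ?_⟩
          simp [ψ, Fintype.linearCombination_apply, Pi.single_apply, ite_smul]
        | zero => simp
        | add y z _ _ hy hz => simp only [tmul_add, map_add]; exact add_mem (hy a) (hz a)
        | smul b y _ hy => rw [← smul_tmul]; exact hy _
  obtain ⟨N, s, hs⟩ := Module.Finite.exists_fin (R := P) (M := A)
  let φ : (Fin r ⊕ Fin N → A) →ₗ[A] Ω[A⁄k] :=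
    Fintype.linearCombination A (Sum.elim (fun i => D k A (T i)) fun j => D k A (s j))
  have hφmem : ∀ g, Sum.elim (fun i => D k A (T i)) (fun j => D k A (s j)) g ∈ LinearMap.range φ := fun g =>
    ⟨Pi.single g 1, by simp [φ, Fintype.linearCombination_apply, Pi.single_apply, ite_smul]⟩
  have htop : LinearMap.range φ ⊔ m • (⊤ : Submodule A (Ω[A⁄k])) = ⊤ := by
    rw [eq_top_iff]
    refine (span_range_derivation k A).ge.trans (Submodule.span_le.mpr ?_)
    rintro _ ⟨a, rfl⟩
    obtain ⟨c, rfl⟩ := (Submodule.mem_span_range_iff_exists_fun P).mp (hs.ge (Submodule.mem_top (x := a)))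
    rw [map_sum]
    refine sum_mem fun j _ => ?_
    rw [Algebra.smul_def, Derivation.leibniz]
    refine add_mem (Submodule.smul_mem _ _ (Submodule.mem_sup_left (hφmem (Sum.inr j)))) (Submodule.smul_mem _ _ ?_)
    have h1 := sub_mem_pow (A := A) (c j) 1
    rw [pow_one] at h1
    rw [← sub_add_cancel (D k A (algebraMap P A (c j)))
      (∑ i, algebraMap P A (MvPowerSeries.pderiv k i (c j)) • D k A (T i))]
    exact add_mem (Submodule.mem_sup_right h1)
      (Submodule.mem_sup_left (sum_mem fun i _ => Submodule.smul_mem _ _ (hφmem (Sum.inl i))))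
  have hosurj := AdicFS.Completed.surjective_of_sup_eq_top m φ htop
  have hψ : Function.Surjective ψ := by
    intro x
    suffices h : x ∈ LinearMap.range ψ from h
    induction x using TensorProduct.induction_on with
    | zero => exact zero_mem _
    | add a b ha hb => exact add_mem ha hb
    | tmul e y =>
      obtain ⟨v, rfl⟩ := hosurj y
      have := hoE (e ⊗ₜ[A] φ v)
      rwa [LinearMap.baseChange_tmul] at this
  -- functionals
  have hF : ∀ i, ∃ (u : A) (_ : u ≠ 0) (F : E ⊗[A] AdicCompletion m (Ω[A⁄k]) →ₗ[E] E),
      ∀ j, F ((1 : E) ⊗ₜ[A] o (D k A (T j))) = if j = i then algebraMap A E u else 0 := by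
    intro i
    let dE : Derivation k E E :=
      ((LinearMap.liftBaseChange E
        ((Algebra.linearMap P E) ∘ₗ (MvPowerSeries.pderiv k i).liftKaehlerDifferential)) ∘ₗ
          (tensorKaehlerEquivOfFormallyEtale k P E).symm.toLinearMap).compDer (D k E)
    have hdE : ∀ c : P, dE (algebraMap P E c) = algebraMap P E (MvPowerSeries.pderiv k i c) := fun c => by
      show LinearMap.liftBaseChange E _ ((tensorKaehlerEquivOfFormallyEtale k P E).symm (D k E (algebraMap P E c))) = _
      rw [tensorKaehlerEquivOfFormallyEtale_symm_D_algebraMap, LinearMap.liftBaseChange_tmul, one_smul,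
        LinearMap.comp_apply, Derivation.liftKaehlerDifferential_comp_D]
      rfl
    obtain ⟨⟨u, hu⟩, hden⟩ := IsLocalization.exist_integer_multiples_of_finset (nonZeroDivisors A)
      (Finset.univ.image fun j => dE (algebraMap A E (s j)))
    have hint : ∀ a : A, ∃ b : A, algebraMap A E b = algebraMap A E u * dE (algebraMap A E a) := by
      intro a
      obtain ⟨c, rfl⟩ := (Submodule.mem_span_range_iff_exists_fun P).mp (hs.ge (Submodule.mem_top (x := a)))
      choose b hb using fun j => hden _ (Finset.mem_image_of_mem _ (Finset.mem_univ j))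
      refine ⟨∑ j, (algebraMap P A (c j) * b j + s j * (u * algebraMap P A (MvPowerSeries.pderiv k i (c j)))), ?_⟩
      rw [map_sum, map_sum, map_sum, Finset.mul_sum]
      refine Finset.sum_congr rfl fun j _ => ?_
      have hb' : algebraMap A E (b j) = algebraMap A E u * dE (algebraMap A E (s j)) := by
        rw [hb, Algebra.smul_def]
      rw [Algebra.smul_def, map_mul (algebraMap A E) (algebraMap P A (c j)) (s j), ← IsScalarTower.algebraMap_apply P A E,
        Derivation.leibniz, hdE]
      simp only [map_add, map_mul, hb', smul_eq_mul, ← IsScalarTower.algebraMap_apply P A E]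
      ring
    choose b hb using hint
    have hinjE := IsFractionRing.injective A E
    let dA : Derivation k A A := Derivation.mk'
      { toFun := b
        map_add' := fun x y => hinjE (by simp only [map_add, hb, mul_add])
        map_smul' := fun l x => hinjE (by
          rw [RingHom.id_apply, Algebra.smul_def l (b x), map_mul, hb, hb, Algebra.smul_def l x, map_mul,
            ← IsScalarTower.algebraMap_apply k A E, ← Algebra.smul_def l (algebraMap A E x), Derivation.map_smul,
            Algebra.smul_def]
          ring) }
      (fun x y => hinjE (by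
        show algebraMap A E (b (x * y)) = algebraMap A E (x * b y + y * b x)
        simp only [map_add, map_mul, hb, Derivation.leibniz, smul_eq_mul]; ring))
    let G : AdicCompletion m (Ω[A⁄k]) →ₗ[A] A :=
      (AdicCompletion.ofLinearEquiv m A).symm.toLinearMap ∘ₗ
        (AdicCompletion.map m dA.liftKaehlerDifferential).restrictScalars A
    refine ⟨u, nonZeroDivisors.ne_zero hu, LinearMap.liftBaseChange E ((Algebra.linearMap A E) ∘ₗ G), fun j => ?_⟩
    rw [LinearMap.liftBaseChange_tmul, one_smul]
    show algebraMap A E ((AdicCompletion.ofLinearEquiv m A).symm (AdicCompletion.map m _ (AdicCompletion.of m _ _))) = _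
    rw [AdicCompletion.map_of, AdicCompletion.ofLinearEquiv_symm_of, Derivation.liftKaehlerDifferential_comp_D]
    show algebraMap A E (b (T j)) = _
    rw [hb, ← IsScalarTower.algebraMap_apply P A E, hdE, MvPowerSeries.pderiv_X, Pi.single_apply]
    by_cases h : j = i
    · simp [h]
    · simp [h, Ne.symm h]
  choose u hu F hF using hF
  have hψinj : Function.Injective ψ := by
    rw [injective_iff_map_eq_zero]
    intro v hv
    funext i
    have h1 := congrArg (F i) hv
    simp only [ψ, Fintype.linearCombination_apply, map_sum, map_smul, hF, map_zero, smul_eq_mul, mul_ite, mul_zero,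
      Finset.sum_ite_eq', Finset.mem_univ, if_true, mul_eq_zero] at h1
    exact h1.resolve_right (by rw [map_eq_zero_iff _ (IsFractionRing.injective A E)]; exact hu i)
  rw [← (LinearEquiv.ofBijective ψ ⟨hψinj, hψ⟩).finrank_eq, Module.finrank_fin_fun]

end Groth.Agent.CohenStruct16.RankKaehler
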