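import Groth.Agent.AdicFS.CompleteNoether
import Groth.Agent.AdicFS.ResidueExt
import Groth.Agent.FieldSep.MacLane
import Groth.Agent.RegLoc.Completion
import Groth.Agent.S0548
import Groth.Agent.S2471
import Mathlib

/-!
# Separable residue extension: formally smooth = regular (EGA 0_IV 19.6.4)
-/

set_option autoImplicit false
set_option linter.style.haveILetI false
universe u

open IsLocalRing

namespace Groth.Agent.CohenStruct16.SepRegular

variable {k A : Type u} [Field k] [CommRing A] [IsLocalRing A] [IsNoetherianRing A] [Algebra k A]
  [Algebra.IsGeometricallyReduced k (ResidueField A)]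

theorem formallySmooth_of_regular [IsRegularLocalRing A] :
    CAlgX.IsAdicFormallySmooth k A (maximalIdeal A) := by
  refine S2471.result.mpr ⟨inferInstance, ?_⟩
  have hs : Function.Surjective (algebraMap A (ResidueField A)) := residue_surjective
  rw [AdicFS.ResidueExt.injective_baseChange_iff (K := ResidueField A) hs]
  have h1 := (FieldSep.MacLane.isGeometricallyReduced_iff_injective k (ResidueField A)).mp inferInstance
  rw [AdicFS.ResidueExt.mapBaseChange_phi (A := A)] at h1
  rw [LinearMap.coe_comp] at h1
  have h2 : Function.Injective (AdicFS.ResidueExt.phi (k := k) (A := A) (K := ResidueField A)) :=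
    Function.Injective.of_comp h1
  intro x y hxy
  obtain ⟨x, rfl⟩ := (TensorProduct.AlgebraTensorModule.cancelBaseChange k A (ResidueField A) (ResidueField A)
    (Ω[k⁄ℤ])).symm.surjective x
  obtain ⟨y, rfl⟩ := (TensorProduct.AlgebraTensorModule.cancelBaseChange k A (ResidueField A) (ResidueField A)
    (Ω[k⁄ℤ])).symm.surjective y
  exact congrArg _ (h2 hxy)

omit [Algebra.IsGeometricallyReduced k (ResidueField A)] in
/-- A complete regular local `k`-algebra with residue field formally smooth over `k` is a power series ring. -/
theorem exists_equiv_of_complete {C : Type u} [CommRing C] [IsRegularLocalRing C]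
    [IsAdicComplete (maximalIdeal C) C] [Algebra k C] [Algebra.FormallySmooth k (ResidueField C)] :
    ∃ (n : ℕ) (f : MvPowerSeries (Fin n) (ResidueField C) →+* C), Function.Bijective f ∧
      ∀ x : k, f (MvPowerSeries.C (algebraMap k (ResidueField C) x)) = algebraMap k C x := by
  classical
  obtain ⟨s, hs⟩ := CAlg48.CoeffField.exists_section C k
  let K := ResidueField C
  let bK := Module.finBasis K (CotangentSpace C)
  choose b hb using fun i => (maximalIdeal C).toCotangent_surjective (bK i)
  obtain ⟨f, hfC, hfX⟩ := Nagata.CohenLift.exists_eval K s.toRingHom (fun i => (b i : C)) (fun i => (b i).2)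
  have hgen : Ideal.span (Set.range fun i => (b i : C)) = maximalIdeal C := by
    refine le_antisymm (Ideal.span_le.mpr (by rintro _ ⟨i, rfl⟩; exact (b i).2)) ?_
    have htop : Submodule.span K (Set.range fun i => (maximalIdeal C).toCotangent (b i)) = ⊤ := by
      rw [show (fun i => (maximalIdeal C).toCotangent (b i)) = bK from funext hb]; exact bK.span_eq
    have h1 := IsLocalRing.CotangentSpace.span_image_eq_top_iff.mp (by
      rw [← Set.range_comp] ; exact htop : Submodule.span K ((maximalIdeal C).toCotangent '' Set.range b) = ⊤)
    intro x hx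
    have h2 : (⟨x, hx⟩ : maximalIdeal C) ∈ Submodule.span C (Set.range b) := h1.ge trivial
    have h3 := Submodule.apply_mem_span_image_of_mem_span (maximalIdeal C).subtype h2
    rwa [← Set.range_comp] at h3
  have hsurj : Function.Surjective f :=
    Nagata.CohenLift.surjective_of_gen K s.toRingHom (fun x => ⟨x, hs x⟩) f hfC (by simpa [hfX] using hgen)
  refine ⟨_, f, ⟨?_, hsurj⟩, fun x => (hfC _).trans (s.commutes x)⟩
  rw [RingHom.injective_iff_ker_eq_bot]
  by_contra hP
  obtain ⟨x, hx, hx0⟩ := Submodule.exists_mem_ne_zero_of_ne_bot hP
  have h2 := ringKrullDim_succ_le_of_surjective f hsurj (mem_nonZeroDivisors_of_ne_zero hx0) hx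
  rw [PSLoc.ringKrullDim_eq K, ← (IsRegularLocalRing.iff_finrank_cotangentSpace C).mp inferInstance] at h2
  have h4 : Module.finrank K (CotangentSpace C) + 1 ≤ Module.finrank K (CotangentSpace C) := by exact_mod_cast h2
  omega

theorem exists_completion_equiv [IsRegularLocalRing A] :
    ∃ (n : ℕ) (e : AdicCompletion (maximalIdeal A) A ≃+* MvPowerSeries (Fin n) (ResidueField A)),
      ∀ x : k, e (algebraMap A (AdicCompletion (maximalIdeal A) A) (algebraMap k A x)) =
        algebraMap (ResidueField A) (MvPowerSeries (Fin n) (ResidueField A)) (algebraMap k (ResidueField A) x) := by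
  let C := AdicCompletion (maximalIdeal A) A
  haveI : IsRegularLocalRing C := (S0548.result A).mp inferInstance
  haveI : IsScalarTower k A C := inferInstance
  let ρ : ResidueField A →ₐ[k] ResidueField C :=
    { toRingHom := ResidueField.map (algebraMap A C)
      commutes' := fun x => by
        show ResidueField.map (algebraMap A C) (residue A (algebraMap k A x)) = _
        rw [ResidueField.map_residue, ← IsScalarTower.algebraMap_apply]
        rfl }
  have hρ : Function.Bijective ρ := AdicCompletion.residueField_map_bijective A
  haveI : Algebra.FormallySmooth k (ResidueField A) := FieldSep.MacLane.formallySmooth_of_isGeometricallyReduced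
  haveI : Algebra.FormallySmooth k (ResidueField C) := Algebra.FormallySmooth.of_equiv (AlgEquiv.ofBijective ρ hρ)
  obtain ⟨n, f, hf, hfx⟩ := exists_equiv_of_complete (k := k) (C := C)
  let κ := RingEquiv.ofBijective ρ.toRingHom hρ
  let μ : MvPowerSeries (Fin n) (ResidueField A) →+* MvPowerSeries (Fin n) (ResidueField C) :=
    MvPowerSeries.map κ.toRingHom
  have hμ : Function.Bijective μ := by
    refine Function.bijective_iff_has_inverse.mpr ⟨MvPowerSeries.map κ.symm.toRingHom, fun z => ?_, fun z => ?_⟩
    · ext d; simp [μ, MvPowerSeries.coeff_map]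
    · ext d; simp [μ, MvPowerSeries.coeff_map]
  refine ⟨n, ((RingEquiv.ofBijective μ hμ).trans (RingEquiv.ofBijective f hf)).symm, fun x => ?_⟩
  rw [RingEquiv.symm_apply_eq]
  show _ = f (μ (algebraMap (ResidueField A) _ (algebraMap k (ResidueField A) x)))
  rw [MvPowerSeries.algebraMap_apply, Algebra.algebraMap_self, RingHom.id_apply, MvPowerSeries.map_C,
    show κ.toRingHom (algebraMap k (ResidueField A) x) = algebraMap k (ResidueField C) x from ρ.commutes x, hfx,
    ← IsScalarTower.algebraMap_apply]

end Groth.Agent.CohenStruct16.SepRegular
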